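/-
Root elements of G2 in characteristic 3: relations, the opposition automorphism, and a test for
equality of integer words modulo 3.
-/
import Cfsg.Agent.Chevalley.DataG2
import Cfsg.Agent.Chevalley.Torus
import Cfsg.Prelude.Def_LieTwisted

set_option autoImplicit false
set_option linter.unusedSectionVars false

namespace Cfsg.Agent.H64.Ree

open Cfsg.Lie Cfsg.Agent.Chevalley
open scoped Matrix

variable {K : Type*} [Field K] [CharP K 3]

/-- root element -/
def X (r : ℕ) (t : K) : GL chevG2.Idx K := G2.cert.xU K r t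

theorem X_add (r : ℕ) (t u : K) : X r t * X r u = X r (t + u) := G2.cert.xU_add K r t u

theorem X_zero (r : ℕ) : X r (0 : K) = 1 := G2.cert.xU_zero K r

theorem wU_pair (w : List (ℕ × K)) :
    G2.cert.wU K w = (w.map fun p => X p.1 p.2).prod := rfl

theorem three_dvd_cast {n : ℤ} (h : (3 : ℤ) ∣ n) : (n : K) = 0 :=
  (CharP.intCast_eq_zero_iff K 3 n).2 (by exact_mod_cast h)

theorem commW_eq {r s : ℕ} (L : List (ℕ × ℤ × ℕ × ℕ)) (t u : K)
    (h : chevG2.commTerms r s = L) :
    G2.cert.wU K (chevG2.commWord K r s t u) =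
      (L.map fun c => X c.1 ((c.2.1 : K) * (-t) ^ c.2.2.1 * u ^ c.2.2.2)).prod := by
  rw [wU_pair, ChevalleyDatum.commWord, h, List.map_map]
  rfl

/-- Root elements whose commutator terms all vanish modulo 3 commute. -/
theorem X_commute {r s : ℕ} (hr : r < 12) (hs : s < 12) (h1 : s ≠ r) (h2 : s + r ≠ 11)
    (h : ((chevG2.commTerms r s).all fun c => c.2.1 % 3 == 0) = true) (t u : K) :
    Commute (X r t) (X s u) := by
  have hn : chevG2.neg r = 11 - r := G2.cert.neg_eq r hr
  have e := G2.cert.xU_comm K (r := r) (s := s) hr hs h1 (by omega) t u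
  have : G2.cert.wU K (chevG2.commWord K r s t u) = 1 := by
    rw [commW_eq _ t u rfl]
    refine List.prod_eq_one fun g hg => ?_
    obtain ⟨c, hc, rfl⟩ := List.mem_map.1 hg
    have hz := List.all_eq_true.1 h c hc
    rw [beq_iff_eq] at hz
    rw [three_dvd_cast (Int.dvd_of_emod_eq_zero hz), zero_mul, zero_mul, X_zero]
  rw [this, mul_one] at e
  exact e.symm

theorem two_eq : (2 : K) = -1 := by
  have : ((3 : ℕ) : K) = 0 := CharP.cast_eq_zero K 3
  push_cast at this
  linear_combination this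

theorem three_eq : (3 : K) = 0 := by
  have : ((3 : ℕ) : K) = 0 := CharP.cast_eq_zero K 3
  exact_mod_cast this

theorem X10_X6 (t u : K) : X 10 u * X 6 t = X 6 t * X 10 u * X 11 (-(t * u)) := by
  show G2.cert.xU K 10 u * G2.cert.xU K 6 t = _
  rw [G2.cert.xU_comm K (r := 6) (s := 10) (by decide) (by decide) (by decide) (by decide) t u,
    commW_eq [(11, 1, 1, 1)] t u (by decide +kernel)]
  simp [X]

theorem X8_X7 (t u : K) : X 8 u * X 7 t = X 7 t * X 8 u * X 9 (-(t * u)) := by
  show G2.cert.xU K 8 u * G2.cert.xU K 7 t = _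
  rw [G2.cert.xU_comm K (r := 7) (s := 8) (by decide) (by decide) (by decide) (by decide) t u,
    commW_eq [(9, -2, 1, 1), (10, -3, 2, 1), (11, 3, 1, 2)] t u (by decide +kernel)]
  simp only [List.map_cons, List.map_nil, List.prod_cons, List.prod_nil]
  push_cast
  simp only [three_eq, two_eq, neg_zero, zero_mul, X_zero, mul_one, pow_one, neg_neg, one_mul,
    neg_mul]
  rfl

theorem X6_X7 (c t : K) : X 6 t * X 7 c = X 7 c * X 6 t *
    (X 8 (c * t) * X 9 (c ^ 2 * t) * X 10 (-(c ^ 3 * t)) * X 11 (-(c ^ 3 * t ^ 2))) := by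
  show G2.cert.xU K 6 t * G2.cert.xU K 7 c = _
  rw [G2.cert.xU_comm K (r := 7) (s := 6) (by decide) (by decide) (by decide) (by decide) c t,
    commW_eq [(8, -1, 1, 1), (9, 1, 2, 1), (10, 1, 3, 1), (11, 1, 3, 2)] c t (by decide +kernel)]
  simp only [List.map_cons, List.map_nil, List.prod_cons, List.prod_nil, mul_one]
  push_cast
  simp only [pow_one, neg_mul, one_mul, neg_neg, Odd.neg_pow (show Odd 3 by decide),
    Even.neg_pow (show Even 2 by decide), mul_assoc]
  rfl

/-! ### The abelian part -/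

/-- `x_8 x_9 x_10 x_11` -/
def Φ (α β γ δ : K) : GL chevG2.Idx K := X 8 α * X 9 β * X 10 γ * X 11 δ

theorem c89 (a b : K) : Commute (X 8 a) (X 9 b) :=
  X_commute (by decide) (by decide) (by decide) (by decide) (by decide +kernel) a b
theorem c810 (a b : K) : Commute (X 8 a) (X 10 b) :=
  X_commute (by decide) (by decide) (by decide) (by decide) (by decide +kernel) a b
theorem c811 (a b : K) : Commute (X 8 a) (X 11 b) :=
  X_commute (by decide) (by decide) (by decide) (by decide) (by decide +kernel) a b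
theorem c910 (a b : K) : Commute (X 9 a) (X 10 b) :=
  X_commute (by decide) (by decide) (by decide) (by decide) (by decide +kernel) a b
theorem c911 (a b : K) : Commute (X 9 a) (X 11 b) :=
  X_commute (by decide) (by decide) (by decide) (by decide) (by decide +kernel) a b
theorem c1011 (a b : K) : Commute (X 10 a) (X 11 b) :=
  X_commute (by decide) (by decide) (by decide) (by decide) (by decide +kernel) a b
theorem c68 (a b : K) : Commute (X 6 a) (X 8 b) :=
  X_commute (by decide) (by decide) (by decide) (by decide) (by decide +kernel) a b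
theorem c69 (a b : K) : Commute (X 6 a) (X 9 b) :=
  X_commute (by decide) (by decide) (by decide) (by decide) (by decide +kernel) a b
theorem c611 (a b : K) : Commute (X 6 a) (X 11 b) :=
  X_commute (by decide) (by decide) (by decide) (by decide) (by decide +kernel) a b
theorem c79 (a b : K) : Commute (X 7 a) (X 9 b) :=
  X_commute (by decide) (by decide) (by decide) (by decide) (by decide +kernel) a b
theorem c710 (a b : K) : Commute (X 7 a) (X 10 b) :=
  X_commute (by decide) (by decide) (by decide) (by decide) (by decide +kernel) a b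
theorem c711 (a b : K) : Commute (X 7 a) (X 11 b) :=
  X_commute (by decide) (by decide) (by decide) (by decide) (by decide +kernel) a b

theorem Φ_mul (α β γ δ α' β' γ' δ' : K) :
    Φ α β γ δ * Φ α' β' γ' δ' = Φ (α + α') (β + β') (γ + γ') (δ + δ') := by
  have e1 : Commute (X 9 β * X 10 γ * X 11 δ) (X 8 α') :=
    (((c89 α' β).symm).mul_left (c810 α' γ).symm).mul_left (c811 α' δ).symm
  have e2 : Commute (X 10 γ * X 11 δ) (X 9 β') := ((c910 β' γ).symm).mul_left (c911 β' δ).symm
  calc Φ α β γ δ * Φ α' β' γ' δ'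
      = X 8 α * ((X 9 β * X 10 γ * X 11 δ) * X 8 α') * (X 9 β' * (X 10 γ' * X 11 δ')) := by
        simp only [Φ, mul_assoc]
    _ = X 8 α * X 8 α' * (X 9 β * ((X 10 γ * X 11 δ) * X 9 β') * (X 10 γ' * X 11 δ')) := by
        rw [e1.eq]; simp only [mul_assoc]
    _ = X 8 α * X 8 α' * (X 9 β * X 9 β') * (X 10 γ * (X 11 δ * X 10 γ') * X 11 δ') := by
        rw [e2.eq]; simp only [mul_assoc]
    _ = X 8 α * X 8 α' * (X 9 β * X 9 β') * (X 10 γ * X 10 γ') * (X 11 δ * X 11 δ') := by
        rw [(c1011 γ' δ).symm.eq]; simp only [mul_assoc]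
    _ = _ := by simp only [X_add, Φ]

theorem Φ_zero : Φ (0 : K) 0 0 0 = 1 := by simp [Φ, X_zero]

theorem Φ_move6 (α β γ δ t : K) :
    Φ α β γ δ * X 6 t = X 6 t * Φ α β γ (δ - t * γ) := by
  calc Φ α β γ δ * X 6 t = X 8 α * X 9 β * (X 10 γ * (X 6 t * X 11 δ)) := by
        rw [(c611 t δ).eq]; simp only [Φ, mul_assoc]
    _ = X 8 α * X 9 β * (X 6 t * X 10 γ * X 11 (-(t * γ)) * X 11 δ) := by
        rw [← mul_assoc (X 10 γ), X10_X6]
    _ = X 8 α * (X 9 β * X 6 t) * (X 10 γ * (X 11 (-(t * γ)) * X 11 δ)) := by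
        simp only [mul_assoc]
    _ = X 6 t * Φ α β γ (δ - t * γ) := by
        rw [← (c69 t β).eq, ← mul_assoc (X 8 α), ← (c68 t α).eq, X_add]
        simp only [Φ, mul_assoc]
        rw [show -(t * γ) + δ = δ - t * γ by ring]

theorem Φ_move7 (α β γ δ c : K) :
    Φ α β γ δ * X 7 c = X 7 c * Φ α (β - c * α) γ δ := by
  have e : Commute (X 9 β * X 10 γ * X 11 δ) (X 7 c) :=
    (((c79 c β).symm).mul_left (c710 c γ).symm).mul_left (c711 c δ).symm
  calc Φ α β γ δ * X 7 c = X 8 α * ((X 9 β * X 10 γ * X 11 δ) * X 7 c) := by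
        simp only [Φ, mul_assoc]
    _ = X 8 α * X 7 c * (X 9 β * X 10 γ * X 11 δ) := by rw [e.eq]; simp only [mul_assoc]
    _ = X 7 c * X 8 α * (X 9 (-(c * α)) * X 9 β * (X 10 γ * X 11 δ)) := by
        rw [X8_X7]; simp only [mul_assoc]
    _ = X 7 c * Φ α (β - c * α) γ δ := by
        rw [X_add, show -(c * α) + β = β - c * α by ring]; simp only [Φ, mul_assoc]

theorem X6_X7_Φ (c t : K) : X 6 t * X 7 c =
    X 7 c * X 6 t * Φ (c * t) (c ^ 2 * t) (-(c ^ 3 * t)) (-(c ^ 3 * t ^ 2)) := X6_X7 c t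

/-! ### Opposition -/

/-- `e_r ↦ e_{-r}` on the coordinates -/
def opp : chevG2.Idx ≃ chevG2.Idx := Equiv.sumCongr (Equiv.refl _) Fin.revPerm

theorem opp_check : ∀ r : Fin 12, ∀ k : Fin 4, ∀ row col : chevG2.Idx,
    aMat chevG2 (11 - r.val) k (opp row) (opp col) =
      (-1) ^ (k : ℕ) * aMat chevG2 r k row col := by
  decide +kernel

/-- The automorphism induced by the opposition. -/
def τ : GL chevG2.Idx K ≃* GL chevG2.Idx K :=
  Units.mapEquiv (Matrix.reindexAlgEquiv K K opp).toMulEquiv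

theorem τ_X {r : ℕ} (hr : r < 12) (t : K) : τ (X r t) = X (11 - r) (-t) := by
  refine Units.ext ?_
  show Matrix.reindex opp opp (chevG2.x K r t) = chevG2.x K (11 - r) (-t)
  rw [G2.cert.x_eq hr, G2.cert.x_eq (show 11 - r < chevG2.nroots by show _ < 12; omega)]
  ext row col
  obtain ⟨row, rfl⟩ := opp.surjective row
  obtain ⟨col, rfl⟩ := opp.surjective col
  simp only [Matrix.reindex_apply, Matrix.submatrix_apply, Equiv.symm_apply_apply, xR,
    Matrix.of_apply]
  refine Finset.sum_congr rfl fun k hk => ?_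
  rw [opp_check ⟨r, hr⟩ ⟨k, Finset.mem_range.1 hk⟩ row col]
  push_cast
  rw [neg_pow t, mul_mul_mul_comm, ← mul_pow]
  simp

theorem τ_wU {w : List (ℕ × K)} (hw : ∀ p ∈ w, p.1 < 12) :
    τ (G2.cert.wU K w) = G2.cert.wU K (chevG2.negWord w) := by
  induction w with
  | nil => simp [G2.cert.wU_nil, ChevalleyDatum.negWord]
  | cons p w ih =>
    rw [G2.cert.wU_cons, map_mul, ih fun q hq => hw q (by simp [hq]),
      show τ (G2.cert.xU K p.1 p.2) = τ (X p.1 p.2) from rfl, τ_X (hw p (by simp))]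
    simp only [ChevalleyDatum.negWord, List.map_cons, G2.cert.wU_cons]
    rw [show chevG2.negIdx.getD p.1 0 = chevG2.neg p.1 from rfl,
      G2.cert.neg_eq p.1 (hw p (by simp))]
    rfl

/-! ### Integer words modulo 3 -/

/-- equality of two integer words modulo 3 -/
def same3 (v w : List (ℕ × ℤ)) : Bool :=
  (v ++ w).all (fun p => decide (p.1 < 12)) && (List.range 14).all fun j =>
    (List.range 14).all fun i =>
      (get (wordCol chevG2 v j) i - get (wordCol chevG2 w j) i) % 3 == 0

/-- an integer word in GL over `K` -/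
def ofZ (w : List (ℕ × ℤ)) : GL chevG2.Idx K := G2.cert.wU K (w.map fun p => (p.1, (p.2 : K)))

theorem ofZ_eq {v w : List (ℕ × ℤ)} (h : same3 v w = true) : (ofZ v : GL chevG2.Idx K) = ofZ w := by
  simp only [same3, Bool.and_eq_true, List.all_eq_true, decide_eq_true_eq, List.mem_range,
    beq_iff_eq, List.mem_append] at h
  obtain ⟨hlt, hh⟩ := h
  refine Units.ext ?_
  simp only [ofZ, Cert.coe_wU]
  rw [← G2.cert.wordR_eq K _ (by
      intro p hp
      obtain ⟨q, hq, rfl⟩ := List.mem_map.1 hp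
      exact hlt q (Or.inl hq)),
    ← G2.cert.wordR_eq K _ (by
      intro p hp
      obtain ⟨q, hq, rfl⟩ := List.mem_map.1 hp
      exact hlt q (Or.inr hq))]
  have e : ∀ u : List (ℕ × ℤ), wordR chevG2 K (u.map fun p => (p.1, (p.2 : K))) =
      (wordR chevG2 ℤ u).map (Int.castRingHom K) := fun u =>
    (wordR_map chevG2 (Int.castRingHom K) u).symm
  rw [e, e]
  ext row col
  simp only [Matrix.map_apply, eq_intCast]
  rw [wordR_eq_get G2.cert.targetsOK v (fun p hp => hlt p (Or.inl hp)),
    wordR_eq_get G2.cert.targetsOK w (fun p hp => hlt p (Or.inr hp))]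
  have h3 := hh (idxNat col) (idxNat_lt col) (idxNat row) (idxNat_lt row)
  have := three_dvd_cast (K := K) (Int.dvd_of_emod_eq_zero h3)
  rw [Int.cast_sub] at this
  exact sub_eq_zero.1 this

theorem ofZ_append (v w : List (ℕ × ℤ)) :
    (ofZ (v ++ w) : GL chevG2.Idx K) = ofZ v * ofZ w := by
  simp [ofZ, Cert.wU_append]

/-- inverse word -/
def invW (w : List (ℕ × ℤ)) : List (ℕ × ℤ) := (w.map fun p => (p.1, -p.2)).reverse

theorem ofZ_invW (w : List (ℕ × ℤ)) : (ofZ (invW w) : GL chevG2.Idx K) = (ofZ w)⁻¹ := by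
  induction w with
  | nil => simp [invW, ofZ, Cert.wU_nil]
  | cons p w ih =>
    have e : invW (p :: w) = invW w ++ [(p.1, -p.2)] := by simp [invW]
    rw [e, ofZ_append, ih]
    simp [ofZ, Cert.wU_cons, Cert.wU_nil, G2.cert.xU_inv]

end Cfsg.Agent.H64.Ree
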