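/-
Integer words for elements of `²G₂(3)`, compared modulo 3 by kernel computation.
-/
import Cfsg.Agent.H64.Ree.Words

set_option autoImplicit false

namespace Cfsg.Agent.H64.Ree

/-- `a(1)` as an integer word -/
def wa : List (ℕ × ℤ) := [(7, 1), (6, 1), (8, 1), (9, 1)]
/-- `b(1)` as an integer word -/
def wb : List (ℕ × ℤ) := [(8, 1), (10, 1)]
/-- `z(1)` as an integer word -/
def wz : List (ℕ × ℤ) := [(9, 1), (11, 1)]
/-- the opposite of `a(1)` -/
def wA : List (ℕ × ℤ) := [(4, -1), (5, -1), (3, -1), (2, -1)]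
/-- the opposite of `z(1)` -/
def wZ : List (ℕ × ℤ) := [(2, -1), (0, -1)]
/-- the involution as an integer word -/
def wt : List (ℕ × ℤ) :=
  [(6, -1), (5, 1), (6, -1), (6, -1), (5, 1), (6, -1),
   (7, -1), (4, 1), (7, -1), (7, -1), (4, 1), (7, -1)]

theorem word_t0_one : same3 wt (wa ++ wa ++ wZ ++ wZ ++ wz ++ wA ++ wZ) = true := by
  decide +kernel

end Cfsg.Agent.H64.Ree
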