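/-
The second word identity in `²G₂(3)`: `t₀` as a product of three conjugates of `z(1)`.
-/
import Cfsg.Agent.H64.Ree.WordFacts

set_option autoImplicit false

namespace Cfsg.Agent.H64.Ree

theorem word_t0_two : same3 wt (wA ++ wz ++ invW wA ++ (wZ ++ wZ ++ wz ++ invW (wZ ++ wZ)) ++
    (wb ++ wA ++ wz ++ invW (wb ++ wA))) = true := by
  decide +kernel

end Cfsg.Agent.H64.Ree
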