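/-
Elements of `²G₂(q)`: unipotent elements, a torus, the involution `t₀` and a criterion for
triviality of homomorphisms.
-/
import Cfsg.Agent.H64.Ree.WordConj

set_option autoImplicit false
set_option linter.unusedSectionVars false

namespace Cfsg.Agent.H64.Ree

open Cfsg.Lie Cfsg.Agent.Chevalley

variable {K : Type*} [Field K] [CharP K 3]

local notation "GG" => GL chevG2.Idx K

variable (m : ℕ)

/-- the `x`-layer -/
def aE (t : K) : GG :=
  X 7 (t ^ 3 ^ m) * X 6 t * Φ (t ^ (3 ^ m + 1)) (t ^ (2 * 3 ^ m + 1)) 0 0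

/-- the `y`-layer -/
def bE (u : K) : GG := Φ (u ^ 3 ^ m) 0 u 0

/-- the `z`-layer -/
def zE (v : K) : GG := Φ 0 (v ^ 3 ^ m) 0 v

theorem odd_e : Odd (3 ^ m) := (show Odd 3 by decide).pow

theorem e_ne : (3 ^ m) ≠ 0 := pow_ne_zero _ (by decide)

theorem bE_add (u u' : K) : (bE m (u + u') : GG) = bE m u * bE m u' := by
  simp only [bE, Φ_mul, add_pow_char_pow, add_zero]

theorem zE_add (v v' : K) : (zE m (v + v') : GG) = zE m v * zE m v' := by
  simp only [zE, Φ_mul, add_pow_char_pow, add_zero]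

theorem commute_bE_zE (u v : K) : Commute (bE m u : GG) (zE m v) := by
  show bE m u * zE m v = zE m v * bE m u
  simp only [bE, zE, Φ_mul]
  simp only [add_comm]

theorem aE_zero : (aE m (0 : K) : GG) = 1 := by
  simp [aE, zero_pow (e_ne m), Φ_zero, X_zero]

theorem bE_zero : (bE m (0 : K) : GG) = 1 := by simp [bE, zero_pow (e_ne m), Φ_zero]

theorem zE_zero : (zE m (0 : K) : GG) = 1 := by simp [zE, zero_pow (e_ne m), Φ_zero]

theorem wU_reeU (t u v : K) :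
    G2.cert.wU K (reeWordU (3 ^ m) t u v) = aE m t * bE m u * zE m v := by
  have h1 : aE m t * bE m u * zE m v = X 7 (t ^ 3 ^ m) * X 6 t *
      Φ (t ^ (3 ^ m + 1) + u ^ 3 ^ m) (t ^ (2 * 3 ^ m + 1) + v ^ 3 ^ m) u v := by
    simp only [aE, bE, zE, mul_assoc, Φ_mul, add_zero, zero_add]
  rw [h1, wU_pair]
  simp only [reeWordU, g2a, g2b, g2ab, g2aab, g2aaab, g2aaabb, List.map_cons, List.map_nil,
    List.prod_cons, List.prod_nil, mul_one, Φ, mul_assoc]

theorem reeU_lt (e : ℕ) (t u v : K) : ∀ p ∈ reeWordU e t u v, p.1 < 12 := by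
  simp [reeWordU, g2a, g2b, g2ab, g2aab, g2aaab, g2aaabb]

theorem wU_reeV (t u v : K) :
    G2.cert.wU K (reeWordV (3 ^ m) t u v) = τ (aE m t * bE m u * zE m v) := by
  rw [← wU_reeU, τ_wU (reeU_lt _ t u v)]
  rfl

theorem mem_U (t u v : K) : (aE m t * bE m u * zE m v : GG) ∈ twistedG2 K (3 ^ m) := by
  rw [← wU_reeU]
  exact Subgroup.subset_closure
    ⟨_, ⟨t, u, v, Or.inl rfl⟩, G2.cert.coe_wU K _⟩

theorem mem_V (t u v : K) : τ (aE m t * bE m u * zE m v : GG) ∈ twistedG2 K (3 ^ m) := by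
  rw [← wU_reeV]
  exact Subgroup.subset_closure
    ⟨_, ⟨t, u, v, Or.inr rfl⟩, G2.cert.coe_wU K _⟩

theorem aE_mem (t : K) : (aE m t : GG) ∈ twistedG2 K (3 ^ m) := by
  simpa [bE_zero, zE_zero] using mem_U m t (0 : K) 0

theorem bE_mem (u : K) : (bE m u : GG) ∈ twistedG2 K (3 ^ m) := by
  simpa [aE_zero, zE_zero] using mem_U m (0 : K) u 0

theorem zE_mem (v : K) : (zE m v : GG) ∈ twistedG2 K (3 ^ m) := by
  simpa [aE_zero, bE_zero] using mem_U m (0 : K) 0 v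

theorem twisted_eq : twistedG2 K (3 ^ m) = Subgroup.closure
    ({g : GG | ∃ t u v, g = aE m t * bE m u * zE m v} ∪
     {g : GG | ∃ t u v, g = τ (aE m t * bE m u * zE m v)}) := by
  refine le_antisymm ((Subgroup.closure_le _).2 ?_) ((Subgroup.closure_le _).2 ?_)
  · rintro g ⟨w, ⟨t, u, v, rfl | rfl⟩, hg⟩
    · exact Subgroup.subset_closure (Or.inl ⟨t, u, v, by
        rw [← wU_reeU]; exact Units.ext (hg.trans (G2.cert.coe_wU K _).symm)⟩)
    · exact Subgroup.subset_closure (Or.inr ⟨t, u, v, by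
        rw [← wU_reeV]; exact Units.ext (hg.trans (G2.cert.coe_wU K _).symm)⟩)
  · rintro g (⟨t, u, v, rfl⟩ | ⟨t, u, v, rfl⟩)
    · exact mem_U m t u v
    · exact mem_V m t u v

/-- `b z a = a b z'` -/
theorem bz_aE (x y v : K) :
    (bE m y * zE m v * aE m x : GG) = aE m x * (bE m y * zE m (v + -1 * x * y)) := by
  simp only [aE, bE, zE, Φ_mul]
  rw [← mul_assoc _ (X 7 _ * X 6 x), ← mul_assoc _ (X 7 _) (X 6 x), Φ_move7, mul_assoc (X 7 _),
    Φ_move6, ← mul_assoc, mul_assoc, Φ_mul, mul_assoc _ (Φ _ _ _ _) (Φ _ _ _ _), Φ_mul]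
  congr 2
  · ring
  · rw [add_pow_char_pow, show (-1 * x * y : K) = -(x * y) by ring, neg_pow,
      (odd_e m).neg_one_pow]
    ring
  · ring
  · ring

section Finite

variable [Fintype K] {m} (hK : Fintype.card K = 3 ^ (2 * m + 1))
include hK

theorem pow_q (x : K) : x ^ (3 * 3 ^ m * 3 ^ m) = x := by
  have : 3 * 3 ^ m * 3 ^ m = 3 ^ (2 * m + 1) := by ring
  rw [this, ← hK, FiniteField.pow_card]

theorem pow_q' (x : K) : ((x ^ (3 * 3 ^ m)) ^ 3 ^ m) = x := by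
  rw [← pow_mul, pow_q hK]

theorem aE_mul (t s : K) : (aE m t * aE m s : GG) = aE m (t + s) *
    bE m (-(t * s ^ (3 * 3 ^ m))) *
    zE m (-(s ^ (3 * 3 ^ m) * t ^ 2) + s * t * s ^ (3 * 3 ^ m)) := by
  have hc : (s ^ 3 ^ m) ^ 3 = s ^ (3 * 3 ^ m) := by rw [← pow_mul, mul_comm]
  have h2 : (2 : K) = -1 := two_eq
  simp only [aE, bE, zE, mul_assoc, Φ_mul]
  rw [← mul_assoc (Φ _ _ _ _) (X 7 _), Φ_move7, mul_assoc (X 7 _), ← mul_assoc (Φ _ _ _ _) (X 6 s),
    Φ_move6, mul_assoc (X 6 s), Φ_mul, ← mul_assoc (X 6 t) (X 7 _), X6_X7_Φ]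
  simp only [mul_assoc]
  rw [← mul_assoc (Φ (s ^ 3 ^ m * t) _ _ _) (X 6 s), Φ_move6, mul_assoc (X 6 s), Φ_mul,
    ← mul_assoc (X 6 t) (X 6 s), X_add, ← mul_assoc (X 7 _) (X 7 _), X_add,
    ← add_pow_char_pow]
  congr 3
  · rw [neg_pow, (odd_e m).neg_one_pow, mul_pow, pow_q' hK, pow_succ (t + s), add_pow_char_pow]
    ring
  · rw [add_pow_char_pow, neg_pow (s ^ (3 * 3 ^ m) * t ^ 2), (odd_e m).neg_one_pow,
      mul_pow, mul_pow, mul_pow, pow_q' hK, pow_succ (t + s), mul_comm 2 (3 ^ m), pow_mul (t + s),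
      add_pow_char_pow]
    linear_combination (norm := ring_nf)
      (-(t * t ^ 3 ^ m * s ^ 3 ^ m) - s * t ^ 3 ^ m * s ^ 3 ^ m) * (three_eq (K := K))
  · rw [hc]; ring
  · rw [hc]; ring

end Finite

/-! ### Torus -/

/-- the torus element -/
def hE (s : K) : GG := G2.cert.hU K 8 (s ^ 3 ^ m) * G2.cert.hU K 10 s

theorem hU_X {r i : ℕ} (hr : r < 12) (hi : i < 12) (c : Kˣ) (t : K) (n : ℤ)
    (hn : pairingSum chevG2 r i = n) :
    G2.cert.hU K r c * X i t * (G2.cert.hU K r c)⁻¹ = X i (((c : K) ^ n) * t) := by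
  rw [X, G2.cert.hU_conj_xU K hr hi, hn, Units.val_zpow_eq_zpow_val]
  rfl

theorem hE_X {i : ℕ} (hi : i < 12) {s : K} (hs : s ≠ 0) (t : K) (p r : ℤ)
    (hp : pairingSum chevG2 8 i = p) (hr : pairingSum chevG2 10 i = r) :
    MulAut.conj (hE m s) (X i t) = X i (((s ^ 3 ^ m) ^ p * s ^ r) * t) := by
  have h1 := hU_X (K := K) (r := 10) (by decide) hi (Units.mk0 s hs) t r hr
  have h2 := hU_X (K := K) (r := 8) (by decide) hi (Units.mk0 _ (pow_ne_zero (3 ^ m) hs))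
    (s ^ r * t) p hp
  simp only [Units.val_mk0] at h1 h2
  rw [MulAut.conj_apply, hE, mul_inv_rev]
  calc _ = G2.cert.hU K 8 (s ^ 3 ^ m) * (G2.cert.hU K 10 s * X i t * (G2.cert.hU K 10 s)⁻¹) *
        (G2.cert.hU K 8 (s ^ 3 ^ m))⁻¹ := by group
    _ = _ := by rw [h1, h2, ← mul_assoc]

/-- the involution -/
def t0E : GG := G2.cert.hU K 6 (-1) * G2.cert.hU K 7 (-1)

theorem t0E_X {i : ℕ} (hi : i < 12) (t : K) (σ : ℤ)
    (h : (-1 : ℤˣ) ^ (pairingSum chevG2 6 i + pairingSum chevG2 7 i) = if σ = 1 then 1 else -1)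
    (hσ : σ = 1 ∨ σ = -1) :
    MulAut.conj t0E (X i t) = X i ((σ : K) * t) := by
  have h1 := hU_X (K := K) (r := 7) (by decide) hi (-1) t _ rfl
  have h2 := hU_X (K := K) (r := 6) (by decide) hi (-1)
    ((-1 : K) ^ pairingSum chevG2 7 i * t) _ rfl
  simp only [Units.val_neg, Units.val_one] at h1 h2
  rw [MulAut.conj_apply, t0E, mul_inv_rev]
  calc _ = G2.cert.hU K 6 (-1) * (G2.cert.hU K 7 (-1) * X i t * (G2.cert.hU K 7 (-1))⁻¹) *
        (G2.cert.hU K 6 (-1))⁻¹ := by group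
    _ = _ := by
      rw [h1, h2, ← mul_assoc, ← zpow_add₀ (by norm_num : (-1 : K) ≠ 0)]
      have := congrArg (fun u : ℤˣ => ((u : ℤ) : K)) h
      congr 2
      rcases Int.even_or_odd (pairingSum chevG2 6 i + pairingSum chevG2 7 i) with he | ho
      · rw [he.neg_one_zpow] at this ⊢
        rcases hσ with rfl | rfl <;> simpa using this
      · rw [ho.neg_one_zpow]
        rw [show (-1 : ℤˣ) ^ (pairingSum chevG2 6 i + pairingSum chevG2 7 i) = -1 from
          ho.neg_one_zpow] at this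
        rcases hσ with rfl | rfl <;> simpa using this

theorem t0_bE (u : K) : MulAut.conj (t0E : GG) (bE m u) = bE m u := by
  simp only [bE, Φ, map_mul, t0E_X (i := 8) (by decide) _ 1 (by decide +kernel) (Or.inl rfl),
    t0E_X (i := 9) (by decide) _ (-1) (by decide +kernel) (Or.inr rfl),
    t0E_X (i := 10) (by decide) _ 1 (by decide +kernel) (Or.inl rfl),
    t0E_X (i := 11) (by decide) _ (-1) (by decide +kernel) (Or.inr rfl)]
  simp

theorem t0_zE (v : K) : MulAut.conj (t0E : GG) (zE m v) = zE m (-v) := by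
  simp only [zE, Φ, map_mul, t0E_X (i := 8) (by decide) _ 1 (by decide +kernel) (Or.inl rfl),
    t0E_X (i := 9) (by decide) _ (-1) (by decide +kernel) (Or.inr rfl),
    t0E_X (i := 10) (by decide) _ 1 (by decide +kernel) (Or.inl rfl),
    t0E_X (i := 11) (by decide) _ (-1) (by decide +kernel) (Or.inr rfl)]
  simp [neg_pow v, (odd_e m).neg_one_pow]

theorem t0_aE (t : K) : MulAut.conj (t0E : GG) (aE m t) = aE m (-t) := by
  simp only [aE, Φ, map_mul, t0E_X (i := 8) (by decide) _ 1 (by decide +kernel) (Or.inl rfl),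
    t0E_X (i := 6) (by decide) _ (-1) (by decide +kernel) (Or.inr rfl),
    t0E_X (i := 7) (by decide) _ (-1) (by decide +kernel) (Or.inr rfl),
    t0E_X (i := 9) (by decide) _ (-1) (by decide +kernel) (Or.inr rfl),
    t0E_X (i := 10) (by decide) _ 1 (by decide +kernel) (Or.inl rfl),
    t0E_X (i := 11) (by decide) _ (-1) (by decide +kernel) (Or.inr rfl)]
  simp [neg_pow t, (odd_e m).neg_one_pow, pow_add, pow_mul]

theorem hE_bE [Fintype K] {s : K} (hs : s ≠ 0) (u : K) :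
    MulAut.conj (hE m s : GG) (bE m u) = bE m (s ^ 2 * u) := by
  simp only [bE, Φ, map_mul, hE_X m (i := 8) (by decide) hs _ 2 0 (by decide +kernel) (by decide +kernel),
    hE_X m (i := 9) (by decide) hs _ 1 1 (by decide +kernel) (by decide +kernel),
    hE_X m (i := 10) (by decide) hs _ 0 2 (by decide +kernel) (by decide +kernel),
    hE_X m (i := 11) (by decide) hs _ 3 1 (by decide +kernel) (by decide +kernel)]
  rw [mul_zero, mul_zero, zpow_zero, zpow_zero, one_mul, mul_one, mul_pow, ← pow_mul s,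
    mul_comm 2 (3 ^ m), pow_mul]
  simp only [zpow_ofNat]

theorem hE_zE [Fintype K] {m : ℕ} (hK : Fintype.card K = 3 ^ (2 * m + 1)) {s : K} (hs : s ≠ 0)
    (v : K) : MulAut.conj (hE m s : GG) (zE m v) = zE m (s ^ (3 * 3 ^ m + 1) * v) := by
  simp only [zE, Φ, map_mul, hE_X m (i := 8) (by decide) hs _ 2 0 (by decide +kernel) (by decide +kernel),
    hE_X m (i := 9) (by decide) hs _ 1 1 (by decide +kernel) (by decide +kernel),
    hE_X m (i := 10) (by decide) hs _ 0 2 (by decide +kernel) (by decide +kernel),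
    hE_X m (i := 11) (by decide) hs _ 3 1 (by decide +kernel) (by decide +kernel)]
  rw [mul_zero, mul_zero, mul_pow (s ^ _), pow_succ s, mul_pow, pow_q' hK]
  simp only [zpow_ofNat, pow_one]
  rw [← pow_mul, mul_comm (3 ^ m) 3, mul_comm s (s ^ 3 ^ m)]

/-! ### Membership -/

theorem bE_eq (u : K) : (bE m u : GG) = X 8 (u ^ 3 ^ m) * X 10 u := by
  simp [bE, Φ, X_zero]

theorem nE_eq (t : K) : (bE m t * τ (bE m t⁻¹) * bE m t : GG) =
    G2.cert.nU K 8 (t ^ 3 ^ m) * G2.cert.nU K 10 t := by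
  have c310 : ∀ a b : K, Commute (X 3 a) (X 10 b) := fun a b =>
    X_commute (by decide) (by decide) (by decide) (by decide) (by decide +kernel) a b
  have c81 : ∀ a b : K, Commute (X 8 a) (X 1 b) := fun a b =>
    X_commute (by decide) (by decide) (by decide) (by decide) (by decide +kernel) a b
  rw [bE_eq, bE_eq, map_mul, τ_X (by decide), τ_X (by decide), inv_pow, G2.cert.nU_eq,
    G2.cert.nU_eq, show chevG2.neg 8 = 3 from rfl, show chevG2.neg 10 = 1 from rfl]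
  set a := t ^ 3 ^ m
  show X 8 a * X 10 t * (X 3 (-a⁻¹) * X 1 (-t⁻¹)) * (X 8 a * X 10 t) =
    X 8 a * X 3 (-a⁻¹) * X 8 a * (X 10 t * X 1 (-t⁻¹) * X 10 t)
  calc _ = X 8 a * (X 10 t * X 3 (-a⁻¹)) * (X 1 (-t⁻¹) * X 8 a) * X 10 t := by
        simp only [mul_assoc]
    _ = X 8 a * X 3 (-a⁻¹) * (X 10 t * X 8 a) * (X 1 (-t⁻¹) * X 10 t) := by
        rw [(c310 _ t).symm.eq, (c81 a _).symm.eq]; simp only [mul_assoc]
    _ = _ := by rw [(c810 a t).symm.eq]; simp only [mul_assoc]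

theorem τ_bE_mem (u : K) : τ (bE m u : GG) ∈ twistedG2 K (3 ^ m) := by
  simpa [aE_zero, zE_zero] using mem_V m (0 : K) u 0

theorem hE_mem (s : K) : (hE m s : GG) ∈ twistedG2 K (3 ^ m) := by
  have hn : ∀ t : K, G2.cert.nU K 8 (t ^ 3 ^ m) * G2.cert.nU K 10 t ∈ twistedG2 K (3 ^ m) :=
    fun t => nE_eq m t ▸ mul_mem (mul_mem (bE_mem m t) (τ_bE_mem m _)) (bE_mem m t)
  have c : Commute (G2.cert.nU K 8 (-1 : K)) (G2.cert.nU K 10 s) := by
    have h : ∀ r ∈ [8, 3], ∀ r' ∈ [10, 1], ∀ a b : K, Commute (X r a) (X r' b) := by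
      intro r hr r' hr'
      simp only [List.mem_cons, List.not_mem_nil, or_false] at hr hr'
      rcases hr with rfl | rfl <;> rcases hr' with rfl | rfl <;> intro a b <;>
        exact X_commute (by decide) (by decide) (by decide) (by decide) (by decide +kernel) a b
    rw [G2.cert.nU_eq, G2.cert.nU_eq, show chevG2.neg 8 = 3 from rfl,
      show chevG2.neg 10 = 1 from rfl]
    have h' : ∀ r ∈ [8, 3], ∀ a : K,
        Commute (X r a) (X 10 s * X 1 (-s⁻¹) * X 10 s) := fun r hr a =>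
      ((h r hr 10 (by simp) a _).mul_right (h r hr 1 (by simp) a _)).mul_right
        (h r hr 10 (by simp) a _)
    exact ((h' 8 (by simp) _).mul_left (h' 3 (by simp) _)).mul_left (h' 8 (by simp) _)
  have h1 := mul_mem (hn s) (hn (-1))
  rw [(odd_e m).neg_one_pow] at h1
  rw [hE, G2.cert.hU_eq, G2.cert.hU_eq]
  convert h1 using 1
  simp only [mul_assoc]
  rw [← mul_assoc (G2.cert.nU K 8 (-1 : K)), c.eq, mul_assoc]

theorem ofZ_wt : (ofZ wt : GG) = t0E := by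
  rw [t0E, G2.cert.hU_eq, G2.cert.hU_eq, G2.cert.nU_eq, G2.cert.nU_eq,
    show chevG2.neg 6 = 5 from rfl, show chevG2.neg 7 = 4 from rfl]
  simp [ofZ, wt, wU_pair, X, mul_assoc]

theorem ofZ_wz : (ofZ wz : GG) = zE m 1 := by
  simp [ofZ, wz, wU_pair, zE, Φ, X_zero]

theorem ofZ_wb : (ofZ wb : GG) = bE m 1 := by
  simp [ofZ, wb, wU_pair, bE, Φ, X_zero]

theorem ofZ_wa : (ofZ wa : GG) = aE m 1 := by
  simp [ofZ, wa, wU_pair, aE, Φ, X_zero, mul_assoc]

theorem ofZ_wA : (ofZ wA : GG) = τ (aE m 1) := by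
  simp [ofZ, wA, wU_pair, aE, Φ, X_zero, mul_assoc, τ_X]

theorem ofZ_wZ : (ofZ wZ : GG) = τ (zE m 1) := by
  simp [ofZ, wZ, wU_pair, zE, Φ, X_zero, τ_X]

theorem τ_wt : τ (t0E : GG) = t0E := by
  rw [← ofZ_wt, ofZ, τ_wU (by
    intro p hp
    obtain ⟨q, hq, rfl⟩ := List.mem_map.1 hp
    revert q
    simp [wt])]
  have : chevG2.negWord (wt.map fun p => (p.1, (p.2 : K))) =
      ([(5, 1), (6, -1), (5, 1), (5, 1), (6, -1), (5, 1),
        (4, 1), (7, -1), (4, 1), (4, 1), (7, -1), (4, 1)] : List (ℕ × ℤ)).map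
        fun p => (p.1, (p.2 : K)) := by
    simp [wt, ChevalleyDatum.negWord, chevG2, chevG2NegIdx]
  rw [this]
  exact ofZ_eq (by decide +kernel)

theorem t0E_sq : (t0E * t0E : GG) = 1 := by
  rw [← ofZ_wt, ← ofZ_append]
  exact (ofZ_eq (w := []) (by decide +kernel)).trans (by simp [ofZ, Cert.wU_nil])

theorem t0_eq_word : (t0E : GG) =
    aE m 1 * aE m 1 * τ (zE m 1) * τ (zE m 1) * zE m 1 * τ (aE m 1) * τ (zE m 1) := by
  rw [← ofZ_wt, ← ofZ_wA m, ← ofZ_wZ m, ← ofZ_wa m, ← ofZ_wz m]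
  simp only [← ofZ_append]
  exact ofZ_eq word_t0_one

theorem t0_eq_conj : (t0E : GG) =
    τ (aE m 1) * zE m 1 * (τ (aE m 1))⁻¹ *
      (τ (zE m 1) * τ (zE m 1) * zE m 1 * (τ (zE m 1) * τ (zE m 1))⁻¹) *
      (bE m 1 * τ (aE m 1) * zE m 1 * (bE m 1 * τ (aE m 1))⁻¹) := by
  rw [← ofZ_wt, ← ofZ_wA m, ← ofZ_wZ m, ← ofZ_wb m, ← ofZ_wz m]
  simp only [← ofZ_append, ← ofZ_invW]
  exact ofZ_eq word_t0_two

theorem τ_aE_mem (t : K) : τ (aE m t : GG) ∈ twistedG2 K (3 ^ m) := by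
  simpa [bE_zero, zE_zero] using mem_V m t (0 : K) 0

theorem τ_zE_mem (v : K) : τ (zE m v : GG) ∈ twistedG2 K (3 ^ m) := by
  simpa [aE_zero, bE_zero] using mem_V m (0 : K) 0 v

theorem t0E_mem : (t0E : GG) ∈ twistedG2 K (3 ^ m) := by
  rw [t0_eq_word m]
  exact mul_mem (mul_mem (mul_mem (mul_mem (mul_mem (mul_mem (aE_mem m 1) (aE_mem m 1))
    (τ_zE_mem m 1)) (τ_zE_mem m 1)) (zE_mem m 1)) (τ_aE_mem m 1)) (τ_zE_mem m 1)

end Cfsg.Agent.H64.Ree
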