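/-
A lower bound for the degree of a representation: an abelian subgroup `b(K) z(K)`, translations
`a(x)` and a torus that moves `z(K)` transitively.
-/
import Mathlib

set_option autoImplicit false
set_option linter.unusedSectionVars false

namespace Cfsg.Agent.H64.Ree

open Module

section Linear

variable {V : Type*} [AddCommGroup V] [Module ℂ V] [FiniteDimensional ℂ V]

/-- A commuting family has a common eigenvector in every nonzero invariant subspace. -/
theorem exists_common_eigenvector {ι : Type*} (f : ι → Module.End ℂ V)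
    (hcomm : ∀ i j, Commute (f i) (f j)) :
    ∀ (n : ℕ) (W : Submodule ℂ V), finrank ℂ W ≤ n → W ≠ ⊥ →
      (∀ i, ∀ w ∈ W, f i w ∈ W) → ∃ u ∈ W, u ≠ 0 ∧ ∀ i, ∃ c : ℂ, f i u = c • u := by
  intro n
  induction n with
  | zero =>
    intro W hn hW _
    exact absurd (Submodule.finrank_eq_zero.1 (Nat.le_zero.1 hn)) hW
  | succ n ih =>
    intro W hn hW hinv
    by_cases hs : ∀ i, ∃ c : ℂ, ∀ w ∈ W, f i w = c • w
    · obtain ⟨u, hu, hu0⟩ := W.ne_bot_iff.1 hW
      exact ⟨u, hu, hu0, fun i => (hs i).imp fun c hc => hc u hu⟩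
    · push Not at hs
      obtain ⟨i, hi⟩ := hs
      haveI : Nontrivial W := Submodule.nontrivial_iff_ne_bot.2 hW
      obtain ⟨μ, hμ⟩ := Module.End.exists_eigenvalue ((f i).restrict (hinv i))
      obtain ⟨x, hx, hx0⟩ := hμ.exists_hasEigenvector
      rw [Module.End.mem_eigenspace_iff] at hx
      set W' := W ⊓ Module.End.eigenspace (f i) μ with hW'
      have hxW' : (x : V) ∈ W' := by
        refine ⟨x.2, ?_⟩
        show (x : V) ∈ Module.End.eigenspace (f i) μ
        rw [Module.End.mem_eigenspace_iff]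
        exact congrArg Subtype.val hx
      have hlt : W' < W := by
        refine lt_of_le_of_ne inf_le_left fun e => ?_
        obtain ⟨w, hw, hne⟩ := hi μ
        exact hne (Module.End.mem_eigenspace_iff.1 (e.symm.le hw).2)
      have hfin := Submodule.finrank_lt_finrank_of_lt hlt
      obtain ⟨u, hu, hu0, hu1⟩ := ih W' (by omega)
        (fun e => hx0 (Subtype.ext ((Submodule.mem_bot ℂ).1 (e ▸ hxW'))))
        (fun j w hw => ⟨hinv j w hw.1, by
          show f j w ∈ Module.End.eigenspace (f i) μ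
          rw [Module.End.mem_eigenspace_iff, ← Module.End.mul_apply, (hcomm i j).eq,
            Module.End.mul_apply, Module.End.mem_eigenspace_iff.1 hw.2, map_smul]⟩)
      exact ⟨u, hu.1, hu0, hu1⟩

/-- An involution of trace zero has determinant `(-1) ^ (dim / 2)`. -/
theorem det_of_involution {f : V →ₗ[ℂ] V} (hf : f * f = 1)
    (htr : LinearMap.trace ℂ V f = 0) :
    ∃ r : ℕ, 2 * r = finrank ℂ V ∧ LinearMap.det f = (-1) ^ r := by
  set P : V →ₗ[ℂ] V := (1 / 2 : ℂ) • (1 - f) with hP
  have hPP : IsIdempotentElem P := by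
    show P * P = P
    rw [hP, smul_mul_smul_comm, sub_mul, one_mul, mul_sub, mul_one, hf]
    module
  have hproj : LinearMap.IsProj (LinearMap.range P) P :=
    ⟨fun x => LinearMap.mem_range_self P x, by
      rintro _ ⟨y, rfl⟩
      exact LinearMap.congr_fun hPP y⟩
  have htrP : LinearMap.trace ℂ V P = (finrank ℂ (LinearMap.range P) : ℂ) := hproj.trace
  refine ⟨finrank ℂ (LinearMap.range P), ?_, ?_⟩
  · rw [hP, map_smul, map_sub, LinearMap.trace_one, htr, smul_eq_mul] at htrP
    rw [← hP] at htrP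
    have : ((2 * finrank ℂ (LinearMap.range P) : ℕ) : ℂ) = (finrank ℂ V : ℂ) := by
      push_cast; rw [← htrP]; ring
    exact_mod_cast this
  · have hfP : f = 1 - (2 : ℂ) • P := by rw [hP]; module
    have hc : IsCompl (LinearMap.range P) (LinearMap.ker P) := hproj.isCompl
    set e := Submodule.prodEquivOfIsCompl _ _ hc with he
    have hk : f = (e : _ →ₗ[ℂ] V) ∘ₗ
        LinearMap.prodMap (-LinearMap.id) LinearMap.id ∘ₗ e.symm.toLinearMap := by
      refine LinearMap.ext fun v => ?_
      obtain ⟨⟨p, q⟩, rfl⟩ := e.surjective v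
      simp only [LinearMap.comp_apply, LinearEquiv.coe_coe, LinearEquiv.symm_apply_apply]
      simp only [he, Submodule.coe_prodEquivOfIsCompl', LinearMap.prodMap_apply,
        LinearMap.neg_apply, LinearMap.id_coe, id_eq, Submodule.coe_neg, hfP, LinearMap.sub_apply,
        Module.End.one_apply, LinearMap.smul_apply, map_add]
      rw [hproj.map_id _ p.2, LinearMap.mem_ker.1 q.2]
      module
    have hkey : LinearMap.det f = LinearMap.det (LinearMap.prodMap
        (-LinearMap.id : LinearMap.range P →ₗ[ℂ] LinearMap.range P)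
        (LinearMap.id : LinearMap.ker P →ₗ[ℂ] LinearMap.ker P)) := by
      rw [hk]
      exact LinearMap.det_conj _ e
    rw [hkey, LinearMap.det_prodMap,
      LinearMap.det_id, mul_one, ← neg_one_smul ℂ (LinearMap.id : LinearMap.range P →ₗ[ℂ] _),
      LinearMap.det_smul, LinearMap.det_id, mul_one]

end Linear

variable {G : Type*} [Group G] {K : Type*} [Field K] [Fintype K]
variable {V : Type*} [AddCommGroup V] [Module ℂ V] [FiniteDimensional ℂ V]

theorem degree_bound (ρ : Representation ℂ G V) (h4 : Fintype.card K % 4 = 3)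
    (b z a : K → G) (c : K) (hc : c ≠ 0)
    (hb : ∀ y y', b (y + y') = b y * b y') (hz : ∀ v v', z (v + v') = z v * z v')
    (hbz : ∀ y v, Commute (b y) (z v))
    (hab : ∀ x y v, b y * z v * a x = a x * (b y * z (v + c * x * y)))
    (hT : ∀ μ : K, μ ≠ 0 → ∃ g : G, ∃ d : K, d ≠ 0 ∧
      ∀ y v, b y * z v * g = g * (b (d * y) * z (μ * v)))
    (t₀ : G) (ht : t₀ * t₀ = 1) (htY : ∀ y v, b y * z v * t₀ = t₀ * (b y * z (-v)))
    (hdet : LinearMap.det (ρ t₀) = 1) (hne : ∃ v₀, ρ (z v₀) ≠ 1) :
    Fintype.card K ^ 2 - Fintype.card K + 1 ≤ finrank ℂ V := by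
  classical
  have hb0 : b 0 = 1 := by
    have h := hb 0 0
    rw [add_zero] at h
    exact left_eq_mul.1 h
  have hz0 : z 0 = 1 := by
    have h := hz 0 0
    rw [add_zero] at h
    exact left_eq_mul.1 h
  obtain ⟨v₀, hv₀⟩ := hne
  let π : K × K → G := fun p => b p.1 * z p.2
  have hπ : ∀ p r, π (p + r) = π p * π r := fun p r => by
    show b (p.1 + r.1) * z (p.2 + r.2) = b p.1 * z p.2 * (b r.1 * z r.2)
    rw [hb, hz, ← mul_assoc (b p.1 * z p.2), mul_assoc (b p.1) (z p.2),
      ((hbz r.1 p.2).symm).eq]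
    simp only [mul_assoc]
  have hπ0 : π 0 = 1 := by show b 0 * z 0 = 1; rw [hb0, hz0, one_mul]
  -- the eigenspaces away from 1 of `z v₀`
  set A : V →ₗ[ℂ] V := ρ (z v₀) - 1 with hA
  have hAne : LinearMap.range A ≠ ⊥ := by
    rw [Ne, LinearMap.range_eq_bot]
    exact sub_ne_zero.2 hv₀
  have hAcomm : ∀ p, Commute (ρ (π p)) A := fun p => by
    refine Commute.sub_right ?_ (Commute.one_right _)
    show ρ _ * ρ _ = ρ _ * ρ _
    have h1 := hπ p (0, v₀)
    have h2 := hπ (0, v₀) p
    have h3 : π (0, v₀) = z v₀ := by show b 0 * z v₀ = _; rw [hb0, one_mul]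
    rw [h3] at h1 h2
    rw [← map_mul, ← map_mul, ← h1, ← h2, add_comm]
  obtain ⟨u₀, hu₀W, hu₀, heig⟩ := exists_common_eigenvector (fun p => ρ (π p))
    (fun p r => by
      show ρ _ * ρ _ = ρ _ * ρ _
      rw [← map_mul, ← map_mul, ← hπ, ← hπ, add_comm])
    (finrank ℂ (LinearMap.range A)) (LinearMap.range A) le_rfl hAne (fun p w hw => by
      obtain ⟨x, rfl⟩ := hw
      exact ⟨ρ (π p) x, by rw [← Module.End.mul_apply, ← (hAcomm p).eq, Module.End.mul_apply]⟩)
  choose χ₀' hχ₀ using heig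
  have hcancel : ∀ {c d : ℂ}, c • u₀ = d • u₀ → c = d := fun h => smul_left_injective ℂ hu₀ h
  let χ₀ : AddChar (K × K) ℂ :=
    { toFun := χ₀'
      map_zero_eq_one' := hcancel (by rw [← hχ₀, hπ0, map_one, one_smul]; rfl)
      map_add_eq_mul' := fun p r => hcancel (by
        rw [← hχ₀, hπ, map_mul, Module.End.mul_apply, hχ₀, map_smul, hχ₀, smul_smul, mul_comm]) }
  have hχ : ∀ p, ρ (π p) u₀ = χ₀ p • u₀ := hχ₀
  -- `χ₀` is nontrivial on `z`
  have hψ : χ₀ (0, v₀) ≠ 1 := by
    intro h1
    obtain ⟨x, hx⟩ := hu₀W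
    have e := hχ (0, v₀)
    rw [h1, one_smul, show π (0, v₀) = z v₀ by show b 0 * z v₀ = _; rw [hb0, one_mul]] at e
    have hpow : ∀ n : ℕ, ρ (z ((n : K) * v₀)) x = x + (n : ℂ) • u₀ := by
      intro n
      induction n with
      | zero => simp [hz0]
      | succ n ih =>
        have e' : ρ (z v₀) x = x + u₀ := by rw [← hx, hA]; simp
        rw [Nat.cast_succ, add_one_mul, add_comm ((n : K) * v₀), hz, map_mul,
          Module.End.mul_apply, ih, map_add, map_smul, e', e, Nat.cast_succ, add_smul, one_smul]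
        abel
    have := hpow (ringChar K)
    rw [ringChar.Nat.cast_ringChar, zero_mul, hz0, map_one, Module.End.one_apply] at this
    have h2 : (ringChar K : ℂ) • u₀ = 0 := left_eq_add.1 this
    rcases smul_eq_zero.1 h2 with h | h
    · haveI := Fact.mk (CharP.char_is_prime K (ringChar K))
      exact (CharP.char_is_prime K (ringChar K)).ne_zero (by exact_mod_cast h)
    · exact hu₀ h
  have hsep : ∀ w : K, (∀ v, χ₀ (0, w * v) = 1) → w = 0 := by
    intro w hw
    by_contra h0
    refine hψ ?_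
    have := hw (w⁻¹ * v₀)
    rwa [← mul_assoc, mul_inv_cancel₀ h0, one_mul] at this
  -- the translates of `u₀`
  choose g d hd hg using hT
  let I := {μ : K // μ ≠ 0} × K
  let L : I → (K × K →+ K × K) := fun i => AddMonoidHom.mk'
    (fun p => (d i.1.1 i.1.2 * p.1, i.1.1 * p.2 + c * i.2 * (d i.1.1 i.1.2 * p.1)))
    (fun p r => Prod.ext (by simp [mul_add]) (by simp only [Prod.fst_add, Prod.snd_add]; ring))
  let χ : I → AddChar (K × K) ℂ := fun i => χ₀.compAddMonoidHom (L i)
  let u : I → V := fun i => ρ (g i.1.1 i.1.2 * a i.2) u₀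
  have hu : ∀ i p, ρ (π p) (u i) = χ i p • u i := by
    intro i p
    show ρ (π p) (ρ _ u₀) = _
    rw [← Module.End.mul_apply, ← map_mul]
    have e : π p * (g i.1.1 i.1.2 * a i.2) = g i.1.1 i.1.2 * a i.2 * π (L i p) := by
      show b p.1 * z p.2 * _ = _ * (b (d i.1.1 i.1.2 * p.1) * z _)
      rw [← mul_assoc, hg, mul_assoc, hab, ← mul_assoc]
      rfl
    rw [e, map_mul, Module.End.mul_apply, hχ, map_smul]
    rfl
  have hu0 : ∀ i, u i ≠ 0 := fun i h => hu₀ (by
    have := congrArg (ρ (g i.1.1 i.1.2 * a i.2)⁻¹) h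
    rwa [← Module.End.mul_apply, ← map_mul, inv_mul_cancel, map_one, Module.End.one_apply,
      map_zero] at this)
  have hdist : ∀ i j, χ i = χ j → i = j := by
    intro i j h
    have hmu : i.1.1 = j.1.1 := by
      refine sub_eq_zero.1 (hsep _ fun v => ?_)
      have e : χ₀ (d i.1.1 i.1.2 * 0, i.1.1 * v + c * i.2 * (d i.1.1 i.1.2 * 0)) =
          χ₀ (d j.1.1 j.1.2 * 0, j.1.1 * v + c * j.2 * (d j.1.1 j.1.2 * 0)) :=
        DFunLike.congr_fun h (0, v)
      simp only [mul_zero, add_zero] at e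
      rw [show ((0 : K), (i.1.1 - j.1.1) * v) = (0, i.1.1 * v) - (0, j.1.1 * v) by
        ext <;> simp [sub_mul], AddChar.map_sub_eq_div, e,
        div_self (AddChar.val_isUnit χ₀ _).ne_zero]
    have hi1 : i.1 = j.1 := Subtype.ext hmu
    refine Prod.ext hi1 (sub_eq_zero.1 ?_)
    have h2 : c * (i.2 - j.2) * d i.1.1 i.1.2 = 0 := hsep _ fun y => by
      have e : χ₀ (d i.1.1 i.1.2 * y, i.1.1 * 0 + c * i.2 * (d i.1.1 i.1.2 * y)) =
          χ₀ (d j.1.1 j.1.2 * y, j.1.1 * 0 + c * j.2 * (d j.1.1 j.1.2 * y)) :=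
        DFunLike.congr_fun h (y, 0)
      rw [← hi1] at e
      simp only [mul_zero, zero_add] at e
      rw [show ((0 : K), c * (i.2 - j.2) * d i.1.1 i.1.2 * y) =
        (d i.1.1 i.1.2 * y, c * i.2 * (d i.1.1 i.1.2 * y)) -
          (d i.1.1 i.1.2 * y, c * j.2 * (d i.1.1 i.1.2 * y)) by
        ext <;> simp <;> ring, AddChar.map_sub_eq_div, e,
        div_self (AddChar.val_isUnit χ₀ _).ne_zero]
    rcases mul_eq_zero.1 h2 with h3 | h3
    · rcases mul_eq_zero.1 h3 with h4' | h4'
      · exact absurd h4' hc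
      · exact h4'
    · exact absurd h3 (hd _ _)
  -- projections
  let P : I → (V →ₗ[ℂ] V) := fun j => ∑ p : K × K, χ j (-p) • ρ (π p)
  have hP : ∀ j (w : V) (ψ : AddChar (K × K) ℂ), (∀ p, ρ (π p) w = ψ p • w) →
      P j w = (if ψ = χ j then (Fintype.card (K × K) : ℂ) else 0) • w := by
    intro j w ψ hw
    simp only [P, LinearMap.sum_apply, LinearMap.smul_apply, hw, smul_smul, ← Finset.sum_smul]
    congr 1
    split
    case isTrue h =>
      subst h
      simp [← AddChar.map_add_eq_mul]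
    case isFalse h =>
      rw [show (∑ p : K × K, χ j (-p) * ψ p) = ∑ p : K × K, ((χ j)⁻¹ * ψ) p by simp [AddChar.inv_apply]]
      refine AddChar.sum_eq_zero_of_ne_one fun h1 => h ?_
      rw [inv_mul_eq_one] at h1
      exact h1.symm
  have hN : (Fintype.card (K × K) : ℂ) ≠ 0 := Nat.cast_ne_zero.2 Fintype.card_ne_zero
  have hPu : ∀ j i, P j (u i) = if i = j then (Fintype.card (K × K) : ℂ) • u i else 0 := by
    intro j i
    rw [hP j _ (χ i) (hu i)]
    by_cases h : i = j
    · simp [h]
    · rw [if_neg fun e => h (hdist i j e), zero_smul, if_neg h]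
  have hli : LinearIndependent ℂ u := by
    rw [Fintype.linearIndependent_iff]
    intro co hco j
    have := congrArg (P j) hco
    rw [map_sum, map_zero] at this
    rw [Finset.sum_eq_single j (fun i _ hi => by rw [map_smul, hPu, if_neg hi, smul_zero])
      (fun h => absurd (Finset.mem_univ j) h), map_smul, hPu, if_pos rfl, smul_smul] at this
    rcases smul_eq_zero.1 this with h | h
    · exact (mul_eq_zero.1 h).resolve_right hN
    · exact absurd h (hu0 j)
  have hcardI : Fintype.card I = Fintype.card K ^ 2 - Fintype.card K := by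
    rw [Fintype.card_prod, Fintype.card_subtype_compl, Fintype.card_subtype_eq, Nat.sub_mul,
      one_mul, sq]
  have hle : Fintype.card I ≤ finrank ℂ V := hli.fintype_card_le_finrank
  by_contra hlt
  have heq : Fintype.card I = finrank ℂ V := by omega
  haveI : Nonempty I := ⟨(⟨1, one_ne_zero⟩, 0)⟩
  let B := basisOfLinearIndependentOfCardEqFinrank hli heq
  have hB : ∀ i, B i = u i := fun i => by
    simp [B, coe_basisOfLinearIndependentOfCardEqFinrank]
  have hPrepr : ∀ j w, P j w = (B.repr w j * (Fintype.card (K × K) : ℂ)) • u j := by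
    intro j w
    conv_lhs => rw [← B.sum_repr w]
    rw [map_sum, Finset.sum_eq_single j
      (fun i _ hi => by rw [map_smul, hB, hPu, if_neg hi, smul_zero])
      (fun h => absurd (Finset.mem_univ j) h), map_smul, hB, hPu, if_pos rfl, smul_smul]
  have htr : LinearMap.trace ℂ V (ρ t₀) = 0 := by
    rw [LinearMap.trace_eq_matrix_trace ℂ B, Matrix.trace]
    refine Finset.sum_eq_zero fun i _ => ?_
    rw [Matrix.diag_apply, LinearMap.toMatrix_apply, hB]
    let L' : K × K →+ K × K := AddMonoidHom.mk' (fun p => (p.1, -p.2))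
      (fun p r => Prod.ext rfl (by simp [add_comm]))
    have hψw : ∀ p, ρ (π p) (ρ t₀ (u i)) = (χ i).compAddMonoidHom L' p • ρ t₀ (u i) := by
      intro p
      rw [← Module.End.mul_apply, ← map_mul, show π p * t₀ = t₀ * π (L' p) from htY p.1 p.2,
        map_mul, Module.End.mul_apply, hu, map_smul]
      rfl
    have hne' : ¬ (χ i).compAddMonoidHom L' = χ i := by
      intro h
      have h3 := hsep (2 * i.1.1) fun v => by
        have e : χ₀ (d i.1.1 i.1.2 * 0, i.1.1 * -v + c * i.2 * (d i.1.1 i.1.2 * 0)) =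
            χ₀ (d i.1.1 i.1.2 * 0, i.1.1 * v + c * i.2 * (d i.1.1 i.1.2 * 0)) :=
          DFunLike.congr_fun h (0, v)
        simp only [mul_zero, add_zero] at e
        rw [show ((0 : K), 2 * i.1.1 * v) = (0, i.1.1 * v) - (0, i.1.1 * -v) by
          ext
          · simp
          · simp; ring, AddChar.map_sub_eq_div, e,
          div_self (AddChar.val_isUnit χ₀ _).ne_zero]
      have h2 : (2 : K) ≠ 0 := Ring.two_ne_zero (fun h => by
        have := FiniteField.even_card_iff_char_two.1 h
        omega)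
      exact mul_ne_zero h2 i.1.2 h3
    have := hP i _ _ hψw
    rw [if_neg hne', zero_smul, hPrepr] at this
    rcases smul_eq_zero.1 this with h | h
    · exact (mul_eq_zero.1 h).resolve_right hN
    · exact absurd h (hu0 i)
  obtain ⟨r, hr, hdr⟩ := det_of_involution (f := ρ t₀) (by rw [← map_mul, ht, map_one]) htr
  rw [hdet] at hdr
  rcases Nat.even_or_odd r with hev | hod
  · obtain ⟨s, rfl⟩ := hev
    have h2 : (4 : ℕ) ∣ Fintype.card K ^ 2 - Fintype.card K := ⟨s, by omega⟩
    obtain ⟨k, hk⟩ : ∃ k, Fintype.card K = 4 * k + 3 := ⟨Fintype.card K / 4, by omega⟩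
    rw [hk] at h2
    have : (4 * k + 3) ^ 2 - (4 * k + 3) = 4 * (4 * k ^ 2 + 5 * k + 1) + 2 :=
      Nat.sub_eq_of_eq_add (by ring)
    omega
  · rw [hod.neg_one_pow] at hdr
    norm_num at hdr

end Cfsg.Agent.H64.Ree
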