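/-
Homomorphisms of `²G₂(q)` fixing `t₀`-conjugation are trivial; the degree bound.
-/
import Cfsg.Agent.H64.Ree.Group
import Cfsg.Agent.H64.Ree.RepBound

set_option autoImplicit false
set_option linter.unusedSectionVars false

namespace Cfsg.Agent.H64.Ree

open Cfsg.Lie

variable {K : Type*} [Field K] [CharP K 3] [Fintype K] {m : ℕ}

local notation "GG" => GL chevG2.Idx K

variable (hK : Fintype.card K = 3 ^ (2 * m + 1))
include hK

theorem card_mod_four : Fintype.card K % 4 = 3 := by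
  rw [hK, pow_succ, pow_mul, Nat.mul_mod, Nat.pow_mod]
  norm_num

theorem sq_or_neg_sq (w : K) (hw : w ≠ 0) : ∃ r : K, r ≠ 0 ∧ (w = r * r ∨ w = -(r * r)) := by
  classical
  have key : IsSquare w ∨ IsSquare (-w) := by
    by_contra h
    push Not at h
    have h2 : ringChar K ≠ 2 := by rw [ringChar.eq K 3]; decide
    have e1 := quadraticChar_neg_one_iff_not_isSquare.2 h.1
    have e2 := quadraticChar_neg_one_iff_not_isSquare.2 h.2
    have e3 : quadraticChar K (-1) = 1 := by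
      have : quadraticChar K (-w) = quadraticChar K (-1) * quadraticChar K w := by
        rw [← map_mul, neg_one_mul]
      rw [e1, e2] at this
      omega
    have := (FiniteField.isSquare_neg_one_iff (F := K)).1
      ((quadraticChar_one_iff_isSquare (neg_ne_zero.2 one_ne_zero)).1 e3)
    exact this (card_mod_four hK)
  rcases key with ⟨r, hr⟩ | ⟨r, hr⟩
  · exact ⟨r, fun h => hw (by rw [hr, h, mul_zero]), Or.inl hr⟩
  · exact ⟨r, fun h => hw (neg_eq_zero.1 (by rw [hr, h, mul_zero])), Or.inr (by rw [← hr, neg_neg])⟩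

theorem exists_ne_pow (hm : 1 ≤ m) : ∃ x : K, x - x ^ (3 * 3 ^ m) ≠ 0 := by
  classical
  by_contra h
  push Not at h
  have h3 : 3 ≤ 3 ^ m := le_self_pow (by norm_num) (by omega)
  have hn : 1 < 3 * 3 ^ m := by omega
  have hp : (Polynomial.X ^ (3 * 3 ^ m) - Polynomial.X : Polynomial K) ≠ 0 :=
    FiniteField.X_pow_card_sub_X_ne_zero K hn
  have hdeg := FiniteField.X_pow_card_sub_X_natDegree_eq K hn
  have := Polynomial.card_roots' (Polynomial.X ^ (3 * 3 ^ m) - Polynomial.X : Polynomial K)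
  have hsub : (Finset.univ : Finset K).val ≤
      (Polynomial.X ^ (3 * 3 ^ m) - Polynomial.X : Polynomial K).roots :=
    (Multiset.le_iff_subset Finset.univ.nodup).2 ?_
  · have hc := Multiset.card_le_card hsub
    rw [Finset.card_val, Finset.card_univ] at hc
    have hq : Fintype.card K = 3 * 3 ^ m * 3 ^ m := by rw [hK]; ring
    have : 3 * 3 ^ m * 3 ≤ 3 * 3 ^ m * 3 ^ m := Nat.mul_le_mul_left _ h3
    omega
  · intro x _
    rw [Polynomial.mem_roots hp]
    simp [(sub_eq_zero.1 (h x)).symm]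

/-- A homomorphism on whose image conjugation by `t₀` is trivial kills `aE`, `bE`, `zE`. -/
theorem kills (hm : 1 ≤ m) {H : Type*} [Group H] (f : ↥(twistedG2 K (3 ^ m)) →* H)
    (hc : ∀ g, f (⟨t0E, t0E_mem m⟩ * g * (⟨t0E, t0E_mem m⟩)⁻¹) = f g) (t u v : K) :
    f ⟨aE m t * bE m u * zE m v, mem_U m t u v⟩ = 1 := by
  set A : K → ↥(twistedG2 K (3 ^ m)) := fun t => ⟨aE m t, aE_mem m t⟩ with hA
  set B : K → ↥(twistedG2 K (3 ^ m)) := fun t => ⟨bE m t, bE_mem m t⟩ with hB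
  set Z : K → ↥(twistedG2 K (3 ^ m)) := fun t => ⟨zE m t, zE_mem m t⟩ with hZ
  have hconj : ∀ (g g' : GG) (hg : g ∈ twistedG2 K (3 ^ m)) (hg' : g' ∈ twistedG2 K (3 ^ m)),
      MulAut.conj t0E g = g' → f ⟨g', hg'⟩ = f ⟨g, hg⟩ := by
    intro g g' hg hg' e
    rw [← hc ⟨g, hg⟩]
    exact congrArg f (Subtype.ext e.symm)
  have hBadd : ∀ y y', B (y + y') = B y * B y' := fun y y' => Subtype.ext (bE_add m y y')
  have hZadd : ∀ y y', Z (y + y') = Z y * Z y' := fun y y' => Subtype.ext (zE_add m y y')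
  have hZ0 : Z 0 = 1 := Subtype.ext (zE_zero m)
  have hB0 : B 0 = 1 := Subtype.ext (bE_zero m)
  have fZ : ∀ v, f (Z v) = 1 := by
    intro v
    have e1 : f (Z (-v)) = f (Z v) := hconj _ _ _ _ (t0_zE m v)
    have e2 : v = -v + -v := by linear_combination v * (three_eq (K := K))
    have e3 : f (Z v) = f (Z v) * f (Z v) := by
      conv_lhs => rw [e2, hZadd, map_mul, e1]
    exact left_eq_mul.1 e3
  have fA : ∀ t s, f (A t) * f (A s) = f (A (t + s)) * f (B (-(t * s ^ (3 * 3 ^ m)))) := by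
    intro t s
    rw [← map_mul, show A t * A s = A (t + s) * B (-(t * s ^ (3 * 3 ^ m))) *
      Z (-(s ^ (3 * 3 ^ m) * t ^ 2) + s * t * s ^ (3 * 3 ^ m)) from Subtype.ext (aE_mul hK t s),
      map_mul, map_mul, fZ, mul_one]
  have fAB : ∀ x, f (A x) = f (B (-(x * x ^ (3 * 3 ^ m)))) := by
    intro x
    have e1 : f (A (-x)) = f (A x) := hconj _ _ _ _ (t0_aE m x)
    have e := fA x x
    rw [show x + x = -x by linear_combination x * (three_eq (K := K)), e1] at e
    exact mul_left_cancel e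
  have fcomm : ∀ t s, f (A t) * f (A s) = f (A s) * f (A t) := by
    intro t s
    rw [fAB, fAB, ← map_mul, ← map_mul, ← hBadd, ← hBadd, add_comm]
  obtain ⟨x, hx⟩ := exists_ne_pow hK hm
  have fBx : f (B (x - x ^ (3 * 3 ^ m))) = 1 := by
    have e := fcomm 1 x
    rw [fA, fA, one_pow, one_mul, mul_one, add_comm x 1] at e
    have e' := mul_left_cancel e
    rw [show x - x ^ (3 * 3 ^ m) = -(x ^ (3 * 3 ^ m)) + x by ring, hBadd, map_mul, e', ← map_mul,
      ← hBadd, neg_add_cancel, hB0, map_one]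
  have fB2 : ∀ s : K, f (B (s ^ 2 * (x - x ^ (3 * 3 ^ m)))) = 1 := by
    intro s
    rcases eq_or_ne s 0 with rfl | hs
    · rw [zero_pow (by norm_num), zero_mul, hB0, map_one]
    · rw [show B (s ^ 2 * (x - x ^ (3 * 3 ^ m))) =
          ⟨hE m s, hE_mem m s⟩ * B (x - x ^ (3 * 3 ^ m)) * (⟨hE m s, hE_mem m s⟩)⁻¹ from
          Subtype.ext (hE_bE m hs _).symm, map_mul, map_mul, fBx, mul_one, ← map_mul,
        mul_inv_cancel, map_one]
  have fB : ∀ y, f (B y) = 1 := by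
    intro y
    set w := x - x ^ (3 * 3 ^ m) with hw
    set r := y / w with hr
    have e : y = (r + 1) ^ 2 * w + ((r - 1) ^ 2 * w + (r - 1) ^ 2 * w) := by
      have : r * w = y := div_mul_cancel₀ y hx
      linear_combination -this + (r * w - r ^ 2 * w - w) * (three_eq (K := K))
    rw [e, hBadd, hBadd, map_mul, map_mul, fB2, fB2, one_mul, one_mul]
  have : (⟨aE m t * bE m u * zE m v, mem_U m t u v⟩ : ↥(twistedG2 K (3 ^ m))) = A t * B u * Z v :=
    rfl
  rw [this, map_mul, map_mul, fZ, fAB, fB, fB, one_mul, one_mul]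

theorem τ_mem {g : GG} (hg : g ∈ twistedG2 K (3 ^ m)) : τ g ∈ twistedG2 K (3 ^ m) := by
  have hinv : ∀ g : GG, τ (τ g) = g := by
    intro g
    refine Units.ext ?_
    show Matrix.reindex opp opp (Matrix.reindex opp opp _) = _
    ext i j
    simp only [Matrix.reindex_apply, Matrix.submatrix_apply]
    have : ∀ i, opp.symm (opp.symm i) = i := by decide
    rw [this, this]
  have hle : twistedG2 K (3 ^ m) ≤ (twistedG2 K (3 ^ m)).comap (τ : GG ≃* GG).toMonoidHom := by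
    conv_lhs => rw [twisted_eq m]
    rw [Subgroup.closure_le]
    rintro g (⟨t, u, v, rfl⟩ | ⟨t, u, v, rfl⟩)
    · exact mem_V m t u v
    · show τ (τ _) ∈ twistedG2 K (3 ^ m)
      rw [hinv]
      exact mem_U m t u v
  exact hle hg

/-- A homomorphism on whose image conjugation by `t₀` is trivial is trivial. -/
theorem hom_trivial (hm : 1 ≤ m) {H : Type*} [Group H] (f : ↥(twistedG2 K (3 ^ m)) →* H)
    (hc : ∀ g, f (⟨t0E, t0E_mem m⟩ * g * (⟨t0E, t0E_mem m⟩)⁻¹) = f g)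
    (g : ↥(twistedG2 K (3 ^ m))) : f g = 1 := by
  let T : ↥(twistedG2 K (3 ^ m)) →* ↥(twistedG2 K (3 ^ m)) :=
    MonoidHom.codRestrict ((τ : GG ≃* GG).toMonoidHom.comp (twistedG2 K (3 ^ m)).subtype) _
      fun g => τ_mem hK g.2
  have hcT : ∀ g, (f.comp T) (⟨t0E, t0E_mem m⟩ * g * (⟨t0E, t0E_mem m⟩)⁻¹) = (f.comp T) g := by
    intro g
    have e : T ⟨t0E, t0E_mem m⟩ = ⟨t0E, t0E_mem m⟩ := Subtype.ext τ_wt
    rw [MonoidHom.comp_apply, map_mul, map_mul T, map_inv T, e, hc]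
    rfl
  have hle : twistedG2 K (3 ^ m) ≤ f.ker.map (twistedG2 K (3 ^ m)).subtype := by
    conv_lhs => rw [twisted_eq m]
    rw [Subgroup.closure_le]
    rintro x (⟨t, u, v, rfl⟩ | ⟨t, u, v, rfl⟩)
    · exact ⟨⟨_, mem_U m t u v⟩, kills hK hm f hc t u v, rfl⟩
    · exact ⟨T ⟨_, mem_U m t u v⟩, kills hK hm (f.comp T) hcT t u v, rfl⟩
  obtain ⟨g', hg', e⟩ := hle g.2
  rwa [← Subtype.ext (a1 := g') (a2 := g) e]

theorem min_degree (hm : 1 ≤ m) {k : ℕ}
    (ρ : Representation ℂ ↥(twistedG2 K (3 ^ m)) (Fin k → ℂ)) (hirr : ρ.IsIrreducible)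
    (h2 : 2 ≤ k) : Fintype.card K ^ 2 - Fintype.card K + 1 ≤ k := by
  let G := twistedG2 K (3 ^ m)
  let t₀ : ↥G := ⟨t0E, t0E_mem m⟩
  have ht : t₀ * t₀ = 1 := Subtype.ext t0E_sq
  have htinv : t₀⁻¹ = t₀ := inv_eq_of_mul_eq_one_right ht
  have hbz : ∀ y v, (⟨bE m y, bE_mem m y⟩ * ⟨zE m v, zE_mem m v⟩ : ↥G) * t₀ =
      t₀ * (⟨bE m y, bE_mem m y⟩ * ⟨zE m (-v), zE_mem m (-v)⟩) := by
    intro y v
    refine Subtype.ext ?_
    show bE m y * zE m v * t0E = t0E * (bE m y * zE m (-v))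
    have e := (map_mul (MulAut.conj (t0E : GG)) (bE m y) (zE m (-v))).trans
      (congrArg₂ (· * ·) (t0_bE m y) (t0_zE m (-v)))
    rw [neg_neg, MulAut.conj_apply] at e
    calc _ = t0E * (bE m y * zE m (-v)) * (t0E : GG)⁻¹ * t0E := by rw [e]
      _ = _ := by rw [inv_mul_cancel_right]
  -- the determinant is trivial
  let d : ↥G →* ℂˣ := (Units.map (LinearMap.det : Module.End ℂ (Fin k → ℂ) →* ℂ)).comp ρ.asGroupHom
  have hd : LinearMap.det (ρ t₀) = 1 := by
    have := hom_trivial hK hm d (fun g => by rw [map_mul, map_mul, mul_comm (d _) (d g),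
      mul_assoc, map_inv, mul_inv_cancel, mul_one]) t₀
    have := congrArg Units.val this
    simpa [d, Representation.asGroupHom_apply] using this
  -- `z` acts nontrivially
  have hne : ∃ v₀, ρ (⟨zE m v₀, zE_mem m v₀⟩ : ↥G) ≠ 1 := by
    by_contra h
    push Not at h
    have hz : ρ.asGroupHom (⟨zE m 1, zE_mem m 1⟩ : ↥G) = 1 := Units.ext
      ((Representation.asGroupHom_apply ρ _).trans (h 1))
    let A₁ : ↥G := ⟨τ (aE m 1), τ_aE_mem m 1⟩
    let Z₁ : ↥G := ⟨zE m 1, zE_mem m 1⟩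
    let Y₁ : ↥G := ⟨τ (zE m 1), τ_zE_mem m 1⟩
    let B₁ : ↥G := ⟨bE m 1, bE_mem m 1⟩
    have e : t₀ = A₁ * Z₁ * A₁⁻¹ * (Y₁ * Y₁ * Z₁ * (Y₁ * Y₁)⁻¹) *
        (B₁ * A₁ * Z₁ * (B₁ * A₁)⁻¹) := Subtype.ext (t0_eq_conj m)
    have ht0 : ρ.asGroupHom t₀ = 1 := by
      rw [e]
      simp only [map_mul, map_inv, show ρ.asGroupHom Z₁ = 1 from hz, mul_one, mul_inv_cancel]
    have htriv : ∀ g, ρ g = 1 := fun g => by
      have := hom_trivial hK hm ρ.asGroupHom (fun g => by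
        rw [map_mul, map_mul, map_inv, ht0, one_mul, inv_one, mul_one]) g
      rw [← Representation.asGroupHom_apply ρ g, this, Units.val_one]
    let x : Fin k → ℂ := fun _ => 1
    have hx : x ≠ 0 := fun h => one_ne_zero (α := ℂ) (congrFun h ⟨0, by omega⟩)
    let S : Subrepresentation ρ :=
      ⟨Submodule.span ℂ {x}, fun g w hw => by rw [htriv g]; exact hw⟩
    have hrank : Module.finrank ℂ (Submodule.span ℂ ({x} : Set (Fin k → ℂ))) = 1 :=
      finrank_span_singleton hx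
    haveI : IsSimpleOrder (Subrepresentation ρ) := hirr
    rcases eq_bot_or_eq_top S with hS | hS
    · have : Submodule.span ℂ ({x} : Set (Fin k → ℂ)) = ⊥ :=
        congrArg Subrepresentation.toSubmodule hS
      exact hx (Submodule.span_singleton_eq_bot.1 this)
    · have : Submodule.span ℂ ({x} : Set (Fin k → ℂ)) = ⊤ :=
        congrArg Subrepresentation.toSubmodule hS
      rw [this, finrank_top, Module.finrank_fin_fun] at hrank
      omega
  refine le_of_le_of_eq (degree_bound ρ (card_mod_four hK)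
    (fun y => ⟨bE m y, bE_mem m y⟩) (fun v => ⟨zE m v, zE_mem m v⟩)
    (fun x => ⟨aE m x, aE_mem m x⟩) (-1) (neg_ne_zero.2 one_ne_zero)
    (fun y y' => Subtype.ext (bE_add m y y')) (fun y y' => Subtype.ext (zE_add m y y'))
    (fun y v => Subtype.ext (commute_bE_zE m y v)) (fun x y v => Subtype.ext (bz_aE m x y v))
    ?_ t₀ ht hbz hd hne) (Module.finrank_fin_fun ℂ)
  intro μ hμ
  obtain ⟨r, hr, hμr⟩ := sq_or_neg_sq hK μ hμ
  set e := 3 * 3 ^ m with he
  have h1 : 1 ≤ e := by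
    have : 0 < 3 ^ m := pow_pos (by norm_num) m
    omega
  set s := r ^ (e - 1) with hs
  have hs0 : s ≠ 0 := pow_ne_zero _ hr
  have hse : s ^ (e + 1) = r * r := by
    have hr1 : r ^ (Fintype.card K - 1) = 1 := FiniteField.pow_card_sub_one_eq_one r hr
    have hq : Fintype.card K = e * 3 ^ m := by rw [hK, he]; ring
    have key : (e - 1) * (e + 1) = 2 + 3 * (Fintype.card K - 1) := by
      have h3 : 3 * Fintype.card K = e * e := by rw [hq, he]; ring
      have h4 : 0 < Fintype.card K := Fintype.card_pos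
      rw [Nat.sub_mul, one_mul, mul_add, mul_one]
      omega
    rw [hs, ← pow_mul, key, pow_add, mul_comm 3, pow_mul, hr1, one_pow, mul_one, sq]
  have hh : ∀ y v, (⟨bE m y, bE_mem m y⟩ * ⟨zE m v, zE_mem m v⟩ : ↥G) *
      (⟨hE m s, hE_mem m s⟩)⁻¹ = (⟨hE m s, hE_mem m s⟩)⁻¹ *
        (⟨bE m (s ^ 2 * y), bE_mem m _⟩ * ⟨zE m (r * r * v), zE_mem m _⟩) := by
    intro y v
    refine Subtype.ext ?_
    show bE m y * zE m v * (hE m s)⁻¹ = (hE m s)⁻¹ * (bE m (s ^ 2 * y) * zE m (r * r * v))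
    have e1 : MulAut.conj (hE m s : GG) (bE m y * zE m v) =
        bE m (s ^ 2 * y) * zE m (r * r * v) := by
      rw [map_mul, hE_bE m hs0, hE_zE hK hs0, ← he, hse]
    rw [← e1, MulAut.conj_apply, eq_inv_mul_iff_mul_eq, ← mul_assoc]
  rcases hμr with rfl | rfl
  · exact ⟨_, s ^ 2, pow_ne_zero _ hs0, hh⟩
  · refine ⟨(⟨hE m s, hE_mem m s⟩ : ↥G)⁻¹ * t₀, s ^ 2, pow_ne_zero _ hs0, fun y v => ?_⟩
    rw [← mul_assoc, hh, mul_assoc, hbz, ← mul_assoc]
    simp only [neg_mul]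

end Cfsg.Agent.H64.Ree
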